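import Cfsg.Agent.H291.DG.InvGen
import Cfsg.Agent.H994.TwoGen.Words
import Cfsg.Agent.HSType.Letters
import Cfsg.Agent.HN.AutHS
import Cfsg.Agent.Prune
set_option linter.all false
prune_inst 0x7f00000000000000000000000000000000000000000000000000000000000000000000000000000000000000000000000000000000000000000000000000000000000000000000000000000000000000003fffffffffffffffffffffffffffbeffbdffffffff
open scoped Cfsg.Agent.FastGrp
/-
The Higman–Sims group is generated by an involution and another element.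
-/
set_option autoImplicit false

namespace Cfsg.Agent.H291.DG.HS

open Cfsg Cfsg.Agent.H994.TwoGen Cfsg.Agent.H994.TwoGen.Words Cfsg.Agent.HSType.Letters

/-- the first element, as a word in the letters -/
def wX : List ℕ := [9]
/-- the second element, as a word in the letters -/
def wY : List ℕ := [10, 3, 1, 11]
/-- the inverse of the second element -/
def wYi : List ℕ := [10, 0, 4, 11]

theorem chk_X : chkOne (wX ++ wX) = true := by decide +kernel
theorem chk_Y : chkOne (wY ++ wYi) = true := by decide +kernel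

/-- the group generated by the two elements -/
def H : Subgroup (Equiv.Perm (Fin 100)) := Subgroup.closure {val gl wX, val gl wY}

theorem mem {w : List ℕ} {k : ℕ} (h : chkOne (expand wX wY wX wYi w ++ [k]) = true) : gl k ∈ H :=
  mem_of_word gl (ev_eq_one chk_X) (ev_eq_one chk_Y) (ev_eq_one h)

theorem mem_0 : gl 0 ∈ H :=
  mem (w := [0, 1, 0, 1, 0, 3, 3, 0, 3, 3, 3, 3, 3, 0, 1, 0, 3, 3, 3, 3, 3, 0, 3]) (by decide +kernel)
theorem mem_2 : gl 2 ∈ H :=
  mem (w := [0, 3, 0, 3, 3, 0, 1, 0, 1, 0, 3, 0, 3, 0, 1, 1, 0, 1, 0, 3, 3, 3, 3]) (by decide +kernel)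
theorem mem_3 : gl 3 ∈ H :=
  mem (w := [1, 1, 0, 1, 1, 1, 1, 0, 3, 0, 1, 1, 1, 0, 3, 0, 1, 0, 1, 1, 1, 0, 1]) (by decide +kernel)
theorem mem_5 : gl 5 ∈ H := mem (w := [1, 1, 1]) (by decide +kernel)
theorem mem_7 : gl 7 ∈ H :=
  mem (w := [0, 3, 3, 3, 0, 1, 1, 1, 0, 1, 0, 1, 1, 1, 0, 3, 3, 3, 0, 1]) (by decide +kernel)
theorem mem_9 : gl 9 ∈ H := mem (w := [0]) (by decide +kernel)
theorem mem_10 : gl 10 ∈ H :=
  mem (w := [0, 1, 1, 0, 3, 3, 3, 3, 0, 3, 0, 1, 0, 3, 3, 3, 3, 3, 0, 3, 0, 1, 0, 1]) (by decide +kernel)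

theorem P_le : P ≤ H := by
  rw [P, Subgroup.closure_le]
  rintro _ (rfl | rfl | rfl | rfl | rfl | rfl | rfl)
  · exact mem_0
  · exact mem_2
  · exact mem_3
  · exact mem_5
  · exact mem_7
  · exact mem_9
  · exact mem_10

theorem H_le : H ≤ P := by
  rw [H, Subgroup.closure_le]
  rintro _ (rfl | rfl)
  · exact ev_mem_P wX (by decide)
  · exact ev_mem_P wY (by decide)

theorem H_eq : Subgroup.closure ({val gl wX, val gl wY} : Set (Equiv.Perm (Fin 100))) = Cfsg.Agent.HN.HS100.Q :=
  (le_antisymm H_le P_le).trans P_eq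

/-- words with different values -/
theorem ne_of {v w : List ℕ} (x : Fin 100) (h : Nat.beq (evp v x) (evp w x) = false) : val gl v ≠ val gl w := by
  intro h0
  have h1 : (evw v x : ℕ) = evw w x := by
    rw [show evw v = evw w from h0]
  rw [ev_val, ev_val] at h1
  rw [h1, Nat.beq_refl] at h
  exact Bool.noConfusion h

/-- The Higman–Sims group is generated by an involution and another element. -/
theorem invGen_Q : InvGen ↥Cfsg.Agent.HN.HS100.Q := by
  refine InvGen.of_closure (c := val gl wX) (b := val gl wY) ?_ ?_ H_eq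
  · rw [pow_two, ← val_append]
    exact ev_eq_one chk_X
  · rw [← val_append, ← val_append]
    exact ne_of 0 (by decide +kernel)

theorem invGen {G : Type*} [Group G] (h : Cfsg.Spor.IsoHS G) : InvGen G := by
  obtain ⟨e⟩ := h
  obtain ⟨⟨f⟩, -⟩ := Cfsg.Agent.HN.AutHS.nonempty_Q
  exact InvGen.congr (e.trans f.symm) invGen_Q

end Cfsg.Agent.H291.DG.HS

private theorem dce_42e0803309b1 : _root_.True := by
  try have : _root_.True := by simp only [_root_.Cfsg.Agent.H291.DG.HS.H.eq_1]
  exact _root_.True.intro
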