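import Mathlib
import Cfsg.Agent.Prune
set_option linter.all false
prune_inst 0x7f00000000000000000000000000000000000000000000000000000000000000000000000000000000000000000000000000000000000000000000000000000000000000000000000000000000000000003fffffffffffffffffffffffffffbeffbdffffffff
open scoped Cfsg.Agent.FastGrp
/-
Groups generated by an involution and an element which does not commute with it.
-/
set_option autoImplicit false

namespace Cfsg.Agent.H291.DG

open Subgroup

/-- `G` is generated by an involution `c` and an element `b` which does not commute with it. -/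
def InvGen (G : Type*) [Group G] : Prop :=
  ∃ c b : G, c ^ 2 = 1 ∧ c * b ≠ b * c ∧ closure ({c, b} : Set G) = ⊤

/-- transport along an isomorphism -/
theorem InvGen.congr {G H : Type*} [Group G] [Group H] (e : G ≃* H) (h : InvGen H) : InvGen G := by
  obtain ⟨c, b, hc, hb, hcb⟩ := h
  refine ⟨e.symm c, e.symm b, by rw [← map_pow, hc, map_one], fun h0 => hb ?_, ?_⟩
  · have := congrArg e h0
    rwa [map_mul, map_mul, e.apply_symm_apply, e.apply_symm_apply] at this
  · have h1 := MonoidHom.map_closure (e.symm : H →* G) ({c, b} : Set H)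
    rw [hcb, Set.image_pair] at h1
    have h2 : (Subgroup.map (e.symm : H →* G) ⊤) = ⊤ := by
      rw [← MonoidHom.range_eq_map]
      exact MonoidHom.range_eq_top.mpr e.symm.surjective
    rw [h2] at h1
    exact h1.symm

/-- from an ambient group -/
theorem InvGen.of_closure {H : Type*} [Group H] {K : Subgroup H} {c b : H} (hc : c ^ 2 = 1)
    (hb : c * b ≠ b * c) (h : closure ({c, b} : Set H) = K) : InvGen ↥K := by
  have ha : c ∈ K := h ▸ Subgroup.subset_closure (Set.mem_insert _ _)
  have hb' : b ∈ K := h ▸ Subgroup.subset_closure (Set.mem_insert_of_mem _ rfl)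
  refine ⟨⟨c, ha⟩, ⟨b, hb'⟩, Subtype.ext hc, fun h0 => hb (congrArg Subtype.val h0), ?_⟩
  apply Subgroup.map_injective K.subtype_injective
  rw [MonoidHom.map_closure, Set.image_pair]
  simp only [Subgroup.coe_subtype]
  rw [h, ← MonoidHom.range_eq_map, Subgroup.range_subtype]

theorem comm_of_gen {G : Type*} [Group G] {c b : G} (hcb : c * b = b * c)
    (h : closure ({c, b} : Set G) = ⊤) (x y : G) : x * y = y * x := by
  have hc : c ∈ centralizer (closure ({c, b} : Set G) : Set G) := by
    rw [centralizer_closure, mem_centralizer_iff]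
    rintro z (rfl | rfl)
    · rfl
    · exact hcb.symm
  have hb : b ∈ centralizer (closure ({c, b} : Set G) : Set G) := by
    rw [centralizer_closure, mem_centralizer_iff]
    rintro z (rfl | rfl)
    · exact hcb
    · rfl
  have hle : closure ({c, b} : Set G) ≤ centralizer (closure ({c, b} : Set G) : Set G) := by
    refine (closure_le _).2 ?_
    rintro z (rfl | rfl)
    · exact hc
    · exact hb
  rw [h] at hle
  exact (mem_centralizer_iff.1 (hle (mem_top x)) y (mem_top y)).symm

/-- a commutative simple finite group has prime order -/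
theorem InvGen.of_card {G : Type*} [Group G] [Finite G] [IsSimpleGroup G] (hG : ¬ (Nat.card G).Prime) {c b : G}
    (hc : c ^ 2 = 1) (h : closure ({c, b} : Set G) = ⊤) : InvGen G := by
  refine ⟨c, b, hc, fun h0 => hG ?_, h⟩
  let _ : CommGroup G := { ‹Group G› with mul_comm := comm_of_gen h0 h }
  exact IsSimpleGroup.prime_card

/-- the same, for a group isomorphic to the simple group -/
theorem InvGen.of_card_equiv {G H : Type*} [Group G] [Group H] [Finite G] [IsSimpleGroup G] (e : G ≃* H)
    (hH : ¬ (Nat.card H).Prime) {c b : H} (hc : c ^ 2 = 1) (h : closure ({c, b} : Set H) = ⊤) : InvGen G := by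
  have hG : ¬ (Nat.card G).Prime := by rwa [Nat.card_congr e.toEquiv]
  refine InvGen.of_card hG (c := e.symm c) (b := e.symm b) (by rw [← map_pow, hc, map_one]) ?_
  have h1 := MonoidHom.map_closure (e.symm : H →* G) ({c, b} : Set H)
  rw [h, Set.image_pair] at h1
  have h2 : (Subgroup.map (e.symm : H →* G) ⊤) = ⊤ := by
    rw [← MonoidHom.range_eq_map]
    exact MonoidHom.range_eq_top.mpr e.symm.surjective
  rw [h2] at h1
  exact h1.symm

theorem InvGen.not_comm {G : Type*} [Group G] (h : InvGen G) : ¬ IsMulCommutative G := by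
  obtain ⟨c, b, -, hb, -⟩ := h
  intro hG
  exact hb (hG.is_comm.comm c b)

/-- the form used by the cohomology lemma -/
theorem InvGen.exists {G : Type*} [Group G] (h : InvGen G) :
    ∃ c b : G, c ^ 2 = 1 ∧ c ≠ 1 ∧ closure ({c, b} : Set G) = ⊤ := by
  obtain ⟨c, b, hc, hb, hcb⟩ := h
  refine ⟨c, b, hc, fun h0 => hb ?_, hcb⟩
  rw [h0, one_mul, mul_one]

/-! ### permutations -/

theorem ne_of_apply {α : Type*} {c b : Equiv.Perm α} (x : α) (h : c (b x) ≠ b (c x)) : c * b ≠ b * c := by
  intro h0
  exact h (congrArg (fun k : Equiv.Perm α => k x) h0)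

theorem sq_of_inv {α : Type*} {g : Equiv.Perm α} (h : ∀ x, g (g x) = x) : g ^ 2 = 1 := by
  ext x
  rw [pow_two, Equiv.Perm.mul_apply, h, Equiv.Perm.one_apply]

theorem pair_swap {G : Type*} [Group G] {K : Subgroup G} {x y : G} (h : closure ({x, y} : Set G) = K) :
    closure ({y, x} : Set G) = K := by rw [Set.pair_comm, h]

end Cfsg.Agent.H291.DG
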